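import Cfsg.Agent.Lib.Coprime.PComponent
import Cfsg.Agent.Lib.Coprime.Action
import Cfsg.Agent.Lib.Invol.SmallSimple
import Mathlib.GroupTheory.NoncommPiCoprod

/-!
# Pumping up: a `p`-component of `C(a)` inside the layer

`Y` has trivial `p'`-core, `a` has order dividing `p`, and `P` is a `p`-component of `C(a)` lying in `E(Y)`
with no component of `Y` larger than `P`.  Then `P` is a component fixed by `a`, or `P` is a diagonal
of `p` components permuted by `a`.
-/

set_option autoImplicit false
set_option linter.style.haveILetI false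
set_option linter.unusedSectionVars false

namespace CfsgLib.Invol.PTerminal

open Subgroup CfsgLib.Coprime
open scoped commutatorElement

variable {Y : Type*} [Group Y] [Finite Y] {p : ℕ} [hp : Fact p.Prime]

/-- `E(Y) = J C(J)` for a component `J`. -/
theorem layer_le_sup_centralizer {J : Subgroup Y} (hJ : Cfsg.IsComponent J) :
    Cfsg.layer Y ≤ J ⊔ centralizer (J : Set Y) := by
  refine sSup_le fun K hK => ?_
  by_cases h : K = J
  · rw [h]; exact le_sup_left
  · exact (commutator_eq_bot_iff_le_centralizer.1 (components_commute hK hJ h)).trans le_sup_right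

theorem exists_mul_of_mem_layer {J : Subgroup Y} (hJ : Cfsg.IsComponent J) {k : Y}
    (hk : k ∈ Cfsg.layer Y) : ∃ j ∈ J, ∃ c ∈ centralizer (J : Set Y), k = j * c := by
  have hn : centralizer (J : Set Y) ≤ normalizer (J : Set Y) := centralizer_le_normalizer _
  have h := layer_le_sup_centralizer hJ hk
  rw [sup_comm, ← SetLike.mem_coe, coe_mul_of_left_le_normalizer_right _ _ hn] at h
  obtain ⟨c, hc, j, hj, rfl⟩ := h
  exact ⟨j, hj, c, hc, (mem_centralizer_iff.1 hc j hj).symm⟩

/-- A component with trivial `p'`-core surroundings has no nontrivial normal `p'`-subgroup. -/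
theorem eq_bot_of_normal_pPrime {J : Subgroup Y} (hO : Cfsg.pPrimeCore p Y = ⊥)
    (hJ : Cfsg.IsComponent J) {N : Subgroup J} [N.Normal] (hN : ¬ p ∣ Nat.card N) : N = ⊥ := by
  refine map_injective J.subtype_injective ?_
  rw [Subgroup.map_bot, eq_bot_iff, ← hO]
  refine le_pPrimeCore_of_isSubnormal hp.out (IsSubnormal.trans' (Normal.isSubnormal inferInstance) hJ.1) ?_
  rw [card_map_of_injective J.subtype_injective]
  exact Nat.coprime_comm.1 (hp.out.coprime_iff_not_dvd.2 hN)

section Quasi

variable {X : Type*} [Group X] [Finite X]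

theorem center_quotient_eq_bot (hX : Cfsg.IsQuasisimple X) : center (X ⧸ center X) = ⊥ := by
  haveI := hX.2
  haveI := hX.1
  refine ((IsSimpleGroup.eq_bot_or_eq_top_of_normal (center (X ⧸ center X)) inferInstance)).resolve_right
    fun e => ?_
  refine center_ne_top_of_isQuasisimple hX (top_unique ?_)
  rw [← Group.IsPerfect.commutator_eq_top (G := X), commutator_def, commutator_le]
  intro x _ y _
  rw [← QuotientGroup.eq_one_iff]
  show QuotientGroup.mk' (center X) ⁅x, y⁆ = 1
  rw [map_commutatorElement, commutatorElement_eq_one_iff_mul_comm]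
  exact (mem_center_iff.1 (e ▸ mem_top (QuotientGroup.mk' (center X) x)) _).symm

/-- An element central modulo the centre is central. -/
theorem mem_center_of_commutator_mem {j : X} (hX : Cfsg.IsQuasisimple X)
    (h : ∀ t, ⁅j, t⁆ ∈ center X) : j ∈ center X := by
  rw [← QuotientGroup.eq_one_iff, ← mem_bot, ← center_quotient_eq_bot hX, mem_center_iff]
  intro q
  obtain ⟨t, rfl⟩ := QuotientGroup.mk'_surjective _ q
  have := (QuotientGroup.eq_one_iff _).2 (h t)
  rw [← QuotientGroup.mk'_apply, map_commutatorElement, commutatorElement_eq_one_iff_mul_comm] at this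
  exact this.symm

theorem not_comm (hX : Cfsg.IsQuasisimple X) : ¬ IsMulCommutative (X ⧸ center X) := fun h => by
  haveI := hX.2
  have := center_quotient_eq_bot hX
  rw [eq_bot_iff] at this
  refine bot_ne_top (α := Subgroup (X ⧸ center X)) (le_antisymm bot_le ?_)
  exact fun q _ => this (mem_center_iff.2 fun r => h.is_comm.comm r q)

/-- For the prime two the simple quotient of a quasisimple group has order divisible by four. -/
theorem sq_dvd_of_two (hX : Cfsg.IsQuasisimple X) (hp2 : p = 2) (hd : p ∣ Nat.card (X ⧸ center X)) :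
    p ^ 2 ∣ Nat.card (X ⧸ center X) := by
  haveI := hX.2
  subst hp2
  have := CfsgLib.Invol.card_mod_four_ne_two (G := X ⧸ center X) (not_comm hX)
  omega

/-- A Sylow subgroup of a quasisimple group is large modulo the centre. -/
theorem sylow_index_center (hX : Cfsg.IsQuasisimple X) (hd : p ∣ Nat.card X) (T : Sylow p X) :
    p ∣ ((center X).subgroupOf (T : Subgroup X)).index ∧
      (p = 2 → p ^ 2 ∣ ((center X).subgroupOf (T : Subgroup X)).index) := by
  haveI := hX.2
  obtain ⟨x, k, hk, hx⟩ := exists_pElement_not_mem_center hX hd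
  set π := QuotientGroup.mk' (center X)
  have hπ : Function.Surjective π := QuotientGroup.mk'_surjective _
  let T' := T.mapSurjective hπ
  have hc : Nat.card (T' : Subgroup (X ⧸ center X)) = ((center X).subgroupOf (T : Subgroup X)).index := by
    rw [Sylow.coe_mapSurjective]
    have h1 : (π.comp (T : Subgroup X).subtype).ker = (center X).subgroupOf (T : Subgroup X) := by
      rw [← MonoidHom.comap_ker, QuotientGroup.ker_mk']; rfl
    rw [← h1, index_ker, MonoidHom.range_comp, range_subtype]
  have hdS : p ∣ Nat.card (X ⧸ center X) := by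
    have h1 : π x ≠ 1 := fun e => hx ((QuotientGroup.eq_one_iff x).1 e)
    obtain ⟨i, -, hi⟩ := (Nat.dvd_prime_pow hp.out).1 (orderOf_dvd_of_pow_eq_one
      (show π x ^ p ^ k = 1 by rw [← map_pow, hk, map_one]))
    have : i ≠ 0 := fun e => h1 (orderOf_eq_one_iff.1 (by rw [hi, e, pow_zero]))
    exact (dvd_pow_self p this).trans (hi ▸ orderOf_dvd_natCard _)
  rw [← hc]
  refine ⟨T'.dvd_card_of_dvd_card hdS, fun h2 => ?_⟩
  exact T'.pow_dvd_card_of_pow_dvd_card (sq_dvd_of_two hX h2 hdS)

end Quasi

/-- Powers of `a` indexed by `ZMod p`. -/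
def apow (a : Y) (i : ZMod p) : Y := a ^ i.val

theorem apow_add {a : Y} (ha : a ^ p = 1) (i j : ZMod p) :
    apow a (i + j) = apow a i * apow a j := by
  haveI : NeZero p := ⟨hp.out.ne_zero⟩
  rw [apow, apow, apow, ← pow_add, ZMod.val_add]
  exact (pow_eq_pow_mod _ ha).symm

theorem apow_zero (a : Y) : apow a (0 : ZMod p) = 1 := by rw [apow, ZMod.val_zero, pow_zero]

theorem apow_neg {a : Y} (ha : a ^ p = 1) (i : ZMod p) : apow a (-i) = (apow a i)⁻¹ := by
  refine eq_inv_of_mul_eq_one_left ?_
  rw [← apow_add ha, neg_add_cancel, apow_zero]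

theorem apow_one (a : Y) : apow a (1 : ZMod p) = a := by
  haveI : Fact (1 < p) := ⟨hp.out.one_lt⟩
  rw [apow, ZMod.val_one, pow_one]

theorem commute_apow {a u : Y} (h : Commute u a) (i : ZMod p) : Commute u (apow a i) := h.pow_right _

/-- The `i`-th twisted embedding of `J`. -/
def emb (a : Y) (J : Subgroup Y) (i : ZMod p) : J →* Y :=
  (MulAut.conj (apow a i)).toMonoidHom.comp J.subtype

theorem emb_apply (a : Y) (J : Subgroup Y) (i : ZMod p) (j : J) :
    emb a J i j = apow a i * j * (apow a i)⁻¹ := rfl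

/-- The orbit member `a^i J a^{-i}`. -/
def tw (a : Y) (J : Subgroup Y) (i : ZMod p) : Subgroup Y :=
  J.map (MulAut.conj (apow a i)).toMonoidHom

theorem tw_zero (a : Y) (J : Subgroup Y) : tw a J (0 : ZMod p) = J := by
  rw [tw, apow_zero, map_one]; exact Subgroup.map_id J

theorem mem_tw {a : Y} {J : Subgroup Y} {i : ZMod p} {x : Y} :
    x ∈ tw a J i ↔ (apow a i)⁻¹ * x * apow a i ∈ J := by
  rw [tw, mem_map_equiv, MulAut.conj_symm_apply]

theorem emb_mem (a : Y) (J : Subgroup Y) (i : ZMod p) (j : J) : emb a J i j ∈ tw a J i :=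
  mem_map_of_mem _ j.2

theorem isComponent_tw {a : Y} {J : Subgroup Y} (hJ : Cfsg.IsComponent J) (i : ZMod p) :
    Cfsg.IsComponent (tw a J i) := isComponent_map_equiv _ hJ

/-- The stabiliser of a moved `J` in `⟨a⟩` is trivial. -/
theorem tw_ne {a : Y} (ha : a ^ p = 1) {J : Subgroup Y} (h : a ∉ normalizer (J : Set Y))
    {i j : ZMod p} (hij : i ≠ j) : tw a J i ≠ tw a J j := by
  intro e
  have hk : apow a (j - i) ∈ normalizer (J : Set Y) := by
    rw [mem_normalizer_iff]
    intro x
    have h1 := SetLike.ext_iff.1 e (apow a j * x * (apow a j)⁻¹)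
    rw [mem_tw, mem_tw] at h1
    have e1 : (apow a i)⁻¹ * (apow a j * x * (apow a j)⁻¹) * apow a i =
        apow a (j - i) * x * (apow a (j - i))⁻¹ := by
      rw [show j - i = -i + j by ring, apow_add ha, apow_neg ha]; group
    have e2 : (apow a j)⁻¹ * (apow a j * x * (apow a j)⁻¹) * apow a j = x := by group
    rw [e1, e2] at h1
    exact h1.symm
  haveI : NeZero p := ⟨hp.out.ne_zero⟩
  have hd : ∀ n : ℕ, apow a ((n : ZMod p) * (j - i)) ∈ normalizer (J : Set Y) := by
    intro n
    induction n with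
    | zero => rw [Nat.cast_zero, zero_mul, apow_zero]; exact one_mem _
    | succ n ih => rw [Nat.cast_succ, add_mul, one_mul, apow_add ha]; exact mul_mem ih hk
  have := hd (((j - i)⁻¹ : ZMod p)).val
  rw [ZMod.natCast_zmod_val, inv_mul_cancel₀ (sub_ne_zero.2 hij.symm), apow_one] at this
  exact h this

theorem emb_commute {a : Y} (ha : a ^ p = 1) {J : Subgroup Y} (hJ : Cfsg.IsComponent J)
    (h : a ∉ normalizer (J : Set Y)) :
    Pairwise fun i j : ZMod p => ∀ x y : J, Commute (emb a J i x) (emb a J j y) := fun i j hij x y =>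
  commutator_eq_bot_iff_forall.1
    (components_commute (isComponent_tw hJ i) (isComponent_tw hJ j) (tw_ne ha h hij))
    _ (emb_mem a J i x) _ (emb_mem a J j y)

/-- What is needed about a diagonal `P`. -/
structure Diag (p : ℕ) (a : Y) (J P : Subgroup Y) : Prop where
  moved : a ∉ normalizer (J : Set Y)
  le_orbit : P ≤ ⨆ i : ZMod p, tw a J i
  permutes : ∀ u, Commute u a → (∀ q ∈ P, Commute u q) →
    ∃ i : ZMod p, (apow a i)⁻¹ * u ∈ normalizer (J : Set Y)
  centralizes : ∀ u, Commute u a → (∀ q ∈ P, Commute u q) → u ∈ normalizer (J : Set Y) →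
    u ∈ centralizer (J : Set Y)
  big : ∀ U : Subgroup Y, IsPGroup p U → (∀ u ∈ U, Commute u a) → U ≤ centralizer (J : Set Y) →
    ∃ R : Subgroup Y, IsPGroup p R ∧ R ≤ centralizer (J : Set Y) ∧ p ^ 2 * Nat.card U ≤ Nat.card R
  twist : ∀ c ∈ P, c ^ p = 1 → ∃ β : Y, β * a * β⁻¹ = c * a ∧ Commute β c

/-- The dichotomy. -/
theorem pump_orbit (hO : Cfsg.pPrimeCore p Y = ⊥) {a : Y} (ha : a ^ p = 1) {P : Subgroup Y}
    (hPH : P ≤ centralizer ({a} : Set Y))
    (hP : Cfsg.IsPComponent p (P.subgroupOf (centralizer ({a} : Set Y))))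
    (hPE : P ≤ Cfsg.layer Y) (hm : ∀ J : Subgroup Y, Cfsg.IsComponent J → Nat.card J ≤ Nat.card P) :
    (∀ N : Subgroup P, N.Normal → ¬ p ∣ Nat.card N → N = ⊥) ∧
    ∃ J : Subgroup Y, Cfsg.IsComponent J ∧ Nat.card J = Nat.card P ∧ (P = J ∨ Diag p a J P) := by
  set H := centralizer ({a} : Set Y) with hH
  have hperf : ⁅P, P⁆ = P := by
    have := congrArg (Subgroup.map H.subtype) (commutator_self_pComponent hP)
    rwa [map_commutator, map_subgroupOf_eq_of_le hPH] at this
  have hclo : pClosure p P = P := by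
    have := congrArg (Subgroup.map H.subtype) (pClosure_pComponent hP)
    rwa [map_pClosure, map_subgroupOf_eq_of_le hPH] at this
  have hPne : P ≠ ⊥ := fun e => pComponent_not_le_pPrimeCore hP (by
    rw [e, bot_subgroupOf]; exact bot_le)
  have hsplit : ∀ U : Subgroup Y, (U.subgroupOf H).IsSubnormal → U ≤ H →
      P ≤ U ∨ ∀ k ∈ P, ∀ u ∈ U, ⁅k, u⁆ ∈ (Cfsg.pPrimeCore p H).map H.subtype := by
    intro U hU hUH
    set π := QuotientGroup.mk' (Cfsg.pPrimeCore p H)
    rcases component_le_or_commutator_eq_bot hP.2.1 (hU.map (QuotientGroup.mk'_surjective _)) with h | h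
    · left
      have h1 : P.subgroupOf H ≤ U.subgroupOf H := by
        rw [eq_pComponentOver hP]
        refine le_trans (pClosure_mono (comap_mono h)) ?_
        refine pClosure_le_of_isSubnormal hU fun hd =>
          pPrimeCore_not_dvd (G := H) hp.out (hd.trans ?_)
        rw [comap_map_eq, QuotientGroup.ker_mk']
        exact relIndex_sup_dvd_card _ _
      exact fun x hx => mem_subgroupOf.1 (h1 (x := ⟨x, hPH hx⟩) (mem_subgroupOf.2 hx))
    · right
      intro k hk u hu
      refine ⟨⁅(⟨k, hPH hk⟩ : H), (⟨u, hUH hu⟩ : H)⁆, (QuotientGroup.eq_one_iff _).1 ?_, map_commutatorElement H.subtype _ _⟩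
      show π _ = 1
      rw [map_commutatorElement, commutatorElement_eq_one_iff_mul_comm]
      exact commutator_eq_bot_iff_forall.1 h _ (mem_map_of_mem π (mem_subgroupOf.2 hk)) _
        (mem_map_of_mem π (mem_subgroupOf.2 hu))
  set OH := (Cfsg.pPrimeCore p H).map H.subtype with hOH
  have hOHp : ¬ p ∣ Nat.card OH := by
    rw [hOH, card_map_of_injective H.subtype_injective]; exact pPrimeCore_not_dvd hp.out
  -- a component not centralized by `P`
  obtain ⟨J, hJ, hJP⟩ : ∃ J : Subgroup Y, Cfsg.IsComponent J ∧ ¬ P ≤ centralizer (J : Set Y) := by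
    by_contra hc
    push Not at hc
    have h1 : P ≤ centralizer (Cfsg.layer Y : Set Y) :=
      le_centralizer_iff.1 (sSup_le fun J hJ => le_centralizer_iff.1 (hc J hJ))
    refine hPne ?_
    rw [← hperf, commutator_eq_bot_iff_le_centralizer]
    exact h1.trans (centralizer_le hPE)
  have hJq : Cfsg.IsQuasisimple J := hJ.2
  have hdJ : p ∣ Nat.card J := dvd_card_of_isComponent hO hJ
  have hPnJ : P ≤ normalizer (J : Set Y) := hPE.trans (layer_le_normalizer_component hJ)
  have hcard : ∀ {K : Subgroup Y}, P ≤ K → Nat.card K ≤ Nat.card P → P = K := fun h1 h2 =>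
    eq_of_le_of_card_ge h1 h2
  by_cases hmv : a ∈ normalizer (J : Set Y)
  · -- `a` fixes `J`
    suffices hPJ : P ≤ J by
      have e := hcard hPJ (hm J hJ)
      refine ⟨fun N hN hd => ?_, J, hJ, by rw [e], Or.inl e⟩
      subst e
      haveI := hN
      exact eq_bot_of_normal_pPrime hO hJ hd
    set U := J ⊓ H with hU
    have hUs : (U.subgroupOf H).IsSubnormal := by
      rw [hU, inf_subgroupOf_right]; exact hJ.1.subgroupOf
    rcases hsplit U hUs inf_le_right with h | h
    · exact h.trans inf_le_left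
    exfalso
    refine hJP ?_
    -- the action of `P` on `J`
    let N := normalizer (J : Set Y)
    let C := (centralizer (J : Set Y)).subgroupOf N
    haveI hCn : C.Normal := (normal_subgroupOf_iff_le_normalizer (centralizer_le_normalizer _)).2
      (normalizer_le_normalizer_centralizer J)
    let ρ := QuotientGroup.mk' C
    have hρc : ∀ (c : Y) (hc : c ∈ N), c ∈ centralizer (J : Set Y) → ρ ⟨c, hc⟩ = 1 := fun c hc h =>
      (QuotientGroup.eq_one_iff _).2 (mem_subgroupOf.2 h)
    have key : ∀ x ∈ (P.subgroupOf N).map ρ, ∀ y ∈ (P.subgroupOf N).map ρ, ∀ z ∈ (P.subgroupOf N).map ρ,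
        ⁅⁅x, y⁆, z⁆ ∈ ((OH ⊓ N).subgroupOf N).map ρ := by
      rintro _ ⟨⟨k, hkN⟩, hk, rfl⟩ _ ⟨⟨k', hkN'⟩, hk', rfl⟩ _ ⟨⟨k'', hkN''⟩, hk'', rfl⟩
      rw [SetLike.mem_coe, mem_subgroupOf] at hk hk' hk''
      obtain ⟨j, hj, c, hc, rfl⟩ := exists_mul_of_mem_layer hJ (hPE hk)
      obtain ⟨j', hj', c', hc', rfl⟩ := exists_mul_of_mem_layer hJ (hPE hk')
      have hfix : ∀ j c, j ∈ J → c ∈ centralizer (J : Set Y) → j * c ∈ P →
          ∃ z ∈ centralizer (J : Set Y), z ∈ J ∧ a * j * a⁻¹ = j * z := by
        intro j c hj hc hjc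
        have hja : a * j * a⁻¹ ∈ J := (mem_normalizer_iff.1 hmv j).1 hj
        have hca : a * c * a⁻¹ ∈ centralizer (J : Set Y) :=
          (mem_normalizer_iff.1 (normalizer_le_normalizer_centralizer J hmv) c).1 hc
        have e : a * (j * c) * a⁻¹ = j * c := by
          have := mem_centralizer_singleton_iff.1 (hPH hjc)
          rw [← this]; group
        refine ⟨j⁻¹ * (a * j * a⁻¹), ?_, mul_mem (inv_mem hj) hja, by group⟩
        have e' : j⁻¹ * (a * j * a⁻¹) = c * (a * c * a⁻¹)⁻¹ := by
          calc j⁻¹ * (a * j * a⁻¹) = j⁻¹ * (a * (j * c) * a⁻¹) * (a * c * a⁻¹)⁻¹ := by group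
            _ = c * (a * c * a⁻¹)⁻¹ := by rw [e]; group
        rw [e']
        exact mul_mem hc (inv_mem hca)
      obtain ⟨z, hz, hzJ, ez⟩ := hfix j c hj hc hk
      obtain ⟨z', hz', hzJ', ez'⟩ := hfix j' c' hj' hc' hk'
      have hu : ⁅j, j'⁆ ∈ U := by
        refine mem_inf.2 ⟨(by rw [commutatorElement_def]; exact mul_mem (mul_mem (mul_mem hj hj') (inv_mem hj)) (inv_mem hj') : ⁅j, j'⁆ ∈ J),
          mem_centralizer_singleton_iff.2 ?_⟩
        have h1 : a * ⁅j, j'⁆ * a⁻¹ = ⁅j * z, j' * z'⁆ := by
          rw [← ez, ← ez']; exact map_commutatorElement (MulAut.conj a) j j'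
        have h2 : ⁅j * z, j' * z'⁆ = ⁅j, j'⁆ := by
          have cz : ∀ t ∈ J, t * z = z * t := fun t ht => (mem_centralizer_iff.1 hz t ht)
          have cz' : ∀ t ∈ J, t * z' = z' * t := fun t ht => (mem_centralizer_iff.1 hz' t ht)
          simp only [commutatorElement_def, mul_inv_rev]
          calc j * z * (j' * z') * (z⁻¹ * j⁻¹) * (z'⁻¹ * j'⁻¹)
              = j * (z * (j' * z')) * z⁻¹ * j⁻¹ * z'⁻¹ * j'⁻¹ := by group
            _ = j * ((j' * z') * z) * z⁻¹ * j⁻¹ * z'⁻¹ * j'⁻¹ := by rw [cz _ (mul_mem hj' hzJ')]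
            _ = j * j' * (z' * j⁻¹) * z'⁻¹ * j'⁻¹ := by group
            _ = j * j' * (j⁻¹ * z') * z'⁻¹ * j'⁻¹ := by rw [cz' _ (inv_mem hj)]
            _ = j * j' * j⁻¹ * j'⁻¹ := by group
        rw [h2] at h1
        exact (mul_inv_eq_iff_eq_mul.1 h1).symm
      have huN : ⁅j, j'⁆ ∈ N := le_normalizer hu.1
      have e : ⁅ρ ⟨j * c, hkN⟩, ρ ⟨j' * c', hkN'⟩⁆ = ρ ⟨⁅j, j'⁆, huN⟩ := by
        have e1 : ∀ (j c : Y) (h : j * c ∈ N) (hj : j ∈ J), c ∈ centralizer (J : Set Y) →
            ρ ⟨j * c, h⟩ = ρ ⟨j, le_normalizer hj⟩ := fun j c h hj hc => by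
          have hcN : c ∈ N := centralizer_le_normalizer _ hc
          rw [show (⟨j * c, h⟩ : N) = ⟨j, le_normalizer hj⟩ * ⟨c, hcN⟩ from rfl, map_mul, hρc c hcN hc,
            mul_one]
        rw [e1 j c hkN hj hc, e1 j' c' hkN' hj' hc', ← map_commutatorElement]
        rfl
      rw [e, ← map_commutatorElement]
      refine mem_map_of_mem ρ (mem_subgroupOf.2 ⟨?_, SetLike.coe_mem _⟩)
      have := h _ hk'' _ hu
      rw [← commutatorElement_inv]
      exact OH.inv_mem this
    have hle : (P.subgroupOf N).map ρ ≤ ((OH ⊓ N).subgroupOf N).map ρ := by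
      have hperfN : ⁅P.subgroupOf N, P.subgroupOf N⁆ = P.subgroupOf N := by
        refine map_injective N.subtype_injective ?_
        rw [map_commutator, map_subgroupOf_eq_of_le hPnJ, hperf]
      have e : (P.subgroupOf N).map ρ =
          ⁅⁅(P.subgroupOf N).map ρ, (P.subgroupOf N).map ρ⁆, (P.subgroupOf N).map ρ⁆ := by
        rw [← map_commutator, hperfN, ← map_commutator, hperfN]
      rw [e, commutator_le]
      intro x hx z hz
      set M := ((OH ⊓ N).subgroupOf N).map ρ
      have hM : ∀ q ∈ (P.subgroupOf N).map ρ, ∀ m ∈ M, q * m * q⁻¹ ∈ M := by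
        rintro _ ⟨⟨k, hkN⟩, hk, rfl⟩ _ ⟨⟨o, hoN⟩, ho, rfl⟩
        rw [← map_inv, ← map_mul, ← map_mul]
        refine mem_map_of_mem ρ (mem_subgroupOf.2 ⟨?_, SetLike.coe_mem _⟩)
        obtain ⟨o', ho', eo⟩ := (mem_subgroupOf.1 ho).1
        refine ⟨(⟨k, hPH (mem_subgroupOf.1 hk)⟩ : H) * o' * (⟨k, hPH (mem_subgroupOf.1 hk)⟩ : H)⁻¹,
          Normal.conj_mem inferInstance o' ho' _, ?_⟩
        show k * (o' : Y) * k⁻¹ = k * o * k⁻¹
        rw [show (o' : Y) = o from eo]
      refine closure_induction ?_ ?_ ?_ ?_ hx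
      · rintro g ⟨g₁, hg₁, g₂, hg₂, rfl⟩; exact key g₁ hg₁ g₂ hg₂ z hz
      · rw [commutatorElement_one_left]; exact one_mem M
      · intro s t hs _ h1 h2
        have : ⁅s * t, z⁆ = s * ⁅t, z⁆ * s⁻¹ * ⁅s, z⁆ := by
          simp only [commutatorElement_def]; group
        rw [this]
        exact mul_mem (hM s (commutator_le_self _ hs) _ h2) h1
      · intro s hs h1
        have : ⁅s⁻¹, z⁆ = s⁻¹ * ⁅s, z⁆⁻¹ * s := by
          simp only [commutatorElement_def]; group
        rw [this]
        have := hM s⁻¹ (inv_mem (commutator_le_self _ hs)) _ (inv_mem h1)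
        rwa [inv_inv] at this
    have hbot : (P.subgroupOf N).map ρ = ⊥ := by
      rw [eq_bot_iff, ← show pClosure p ((P.subgroupOf N).map ρ) = (P.subgroupOf N).map ρ by
        rw [← map_pClosure]
        congr 1
        refine map_injective N.subtype_injective ?_
        rw [map_pClosure, map_subgroupOf_eq_of_le hPnJ, hclo]]
      rw [pClosure, closure_le]
      rintro q ⟨hq, k, hk⟩
      have h1 : ¬ p ∣ Nat.card (((OH ⊓ N).subgroupOf N).map ρ) := fun hd => hOHp (hd.trans (by
        refine (card_map_dvd _ ρ).trans ?_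
        rw [Nat.card_congr (subgroupOfEquivOfLe inf_le_right).toEquiv]
        exact card_dvd_of_le inf_le_left))
      have h2 : orderOf q ∣ Nat.card (((OH ⊓ N).subgroupOf N).map ρ) := by
        rw [← Subgroup.orderOf_mk q (hle hq)]; exact orderOf_dvd_natCard _
      obtain ⟨i, -, hi⟩ := (Nat.dvd_prime_pow hp.out).1 (orderOf_dvd_of_pow_eq_one hk)
      rcases i.eq_zero_or_pos with h0 | h0
      · exact mem_bot.2 (orderOf_eq_one_iff.1 (by rw [hi, h0, pow_zero]))
      · exact absurd ((dvd_pow_self p h0.ne').trans (hi ▸ h2)) h1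
    intro k hk
    have h1 : ρ ⟨k, hPnJ hk⟩ ∈ (⊥ : Subgroup (N ⧸ C)) := hbot ▸ mem_map_of_mem ρ (mem_subgroupOf.2 hk)
    exact mem_subgroupOf.1 ((QuotientGroup.eq_one_iff _).1 (mem_bot.1 h1))
  · -- `a` moves `J`
    haveI : NeZero p := ⟨hp.out.ne_zero⟩
    have hc := emb_commute ha hJ hmv
    set Φ := MonoidHom.noncommPiCoprod (emb (p := p) a J) hc with hΦ
    let Δ : J →* Y := Φ.comp (Pi.monoidHom fun _ => MonoidHom.id J)
    have hshift : ∀ f : ZMod p → J, a * Φ f * a⁻¹ = Φ (fun i => f (i - 1)) := by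
      intro f
      have hh : (MulAut.conj a).toMonoidHom.comp Φ =
          Φ.comp (Pi.monoidHom fun i : ZMod p => Pi.evalMonoidHom (fun _ : ZMod p => J) (i - 1)) := by
        refine MonoidHom.pi_ext fun i t => ?_
        show a * Φ (Pi.mulSingle i t) * a⁻¹ = Φ (fun k => (Pi.mulSingle i t : ZMod p → J) (k - 1))
        have e : (fun k => (Pi.mulSingle i t : ZMod p → J) (k - 1)) = Pi.mulSingle (i + 1) t := by
          funext k
          rw [Pi.mulSingle_apply, Pi.mulSingle_apply]
          simp only [sub_eq_iff_eq_add]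
        rw [e, hΦ, MonoidHom.noncommPiCoprod_mulSingle, MonoidHom.noncommPiCoprod_mulSingle, emb_apply,
          emb_apply, add_comm i 1, apow_add ha, apow_one]
        group
      exact DFunLike.congr_fun hh f
    have hΔa : ∀ t, Δ t ∈ H := fun t => mem_centralizer_singleton_iff.2
      (mul_inv_eq_iff_eq_mul.1 (hshift fun _ => t)).symm
    -- conjugation by elements commuting with `a` and normalizing `J`
    have hconj : ∀ u, Commute u a → ∀ hu : u ∈ normalizer (J : Set Y), ∀ t : J,
        u * Δ t * u⁻¹ = Δ ⟨u * t * u⁻¹, (mem_normalizer_iff.1 hu t).1 t.2⟩ := by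
      intro u hua hu t
      let κ : J →* J :=
        { toFun := fun s => ⟨u * s * u⁻¹, (mem_normalizer_iff.1 hu s).1 s.2⟩
          map_one' := Subtype.ext (by simp)
          map_mul' := fun s s' => Subtype.ext (by show u * (s * s') * u⁻¹ = u * s * u⁻¹ * (u * s' * u⁻¹); group) }
      have hh : (MulAut.conj u).toMonoidHom.comp Φ =
          Φ.comp (Pi.monoidHom fun i : ZMod p => κ.comp (Pi.evalMonoidHom (fun _ : ZMod p => J) i)) := by
        refine MonoidHom.pi_ext fun i s => ?_
        show u * Φ (Pi.mulSingle i s) * u⁻¹ = Φ (fun k => κ ((Pi.mulSingle i s : ZMod p → J) k))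
        have e : (fun k => κ ((Pi.mulSingle i s : ZMod p → J) k)) = Pi.mulSingle i (κ s) := by
          funext k
          exact Pi.apply_mulSingle (fun _ => κ) (fun _ => map_one κ) i s k
        rw [e, hΦ, MonoidHom.noncommPiCoprod_mulSingle, MonoidHom.noncommPiCoprod_mulSingle, emb_apply,
          emb_apply]
        have := (commute_apow (p := p) hua i).eq
        calc u * (apow a i * s * (apow a i)⁻¹) * u⁻¹ = (u * apow a i) * s * (u * apow a i)⁻¹ := by group
          _ = (apow a i * u) * s * (apow a i * u)⁻¹ := by rw [this]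
          _ = apow a i * (u * s * u⁻¹) * (apow a i)⁻¹ := by group
      exact DFunLike.congr_fun hh fun _ => t
    have hker : ∀ f : ZMod p → J, Φ f ∈ centralizer (J : Set Y) → f 0 ∈ center J := by
      intro f hf
      rw [mem_center_iff]
      intro t
      have h0 : Φ (Pi.mulSingle 0 t) = t := by
        rw [hΦ, MonoidHom.noncommPiCoprod_mulSingle, emb_apply, apow_zero]; group
      have h1 : Φ (f * Pi.mulSingle 0 t * f⁻¹) = t := by
        rw [map_mul, map_mul, h0, map_inv, ← mem_centralizer_iff.1 hf t t.2, mul_inv_cancel_right]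
      have h2 : f * Pi.mulSingle 0 t * f⁻¹ = Pi.mulSingle 0 (f 0 * t * (f 0)⁻¹) := by
        funext k
        rcases eq_or_ne k 0 with rfl | hk
        · simp
        · simp [Pi.mulSingle_eq_of_ne hk]
      rw [h2, hΦ, MonoidHom.noncommPiCoprod_mulSingle, emb_apply, apow_zero, one_mul, inv_one, mul_one] at h1
      exact (mul_inv_eq_iff_eq_mul.1 (Subtype.ext h1)).symm
    have hΔker : ∀ t, Δ t = 1 → t ∈ center J := fun t ht =>
      hker (fun _ => t) (by show Δ t ∈ _; rw [ht]; exact one_mem _)
    have hEH : ∀ x ∈ Cfsg.layer Y, x ∈ H → ∀ t, x * Δ t * x⁻¹ ∈ Δ.range := fun x hx hxH t => by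
      rw [hconj x (mem_centralizer_singleton_iff.1 hxH) (layer_le_normalizer_component hJ hx)]
      exact ⟨_, rfl⟩
    have hΔE : Δ.range ≤ Cfsg.layer Y := by
      rintro _ ⟨t, rfl⟩
      refine (MonoidHom.noncommPiCoprod_range (ϕ := emb (p := p) a J) (hcomm := hc)).le.trans
        (iSup_le ?_) ⟨(fun _ => t), rfl⟩
      rintro i _ ⟨s, rfl⟩
      exact component_le_layer (isComponent_tw hJ i) (emb_mem a J i s)
    have hΔH : Δ.range ≤ H := by rintro _ ⟨t, rfl⟩; exact hΔa t
    have hΔs : (Δ.range.subgroupOf H).IsSubnormal := by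
      haveI := layer_normal (G := Y)
      haveI hn : ((Cfsg.layer Y).subgroupOf H).Normal := inferInstance
      have hle : Δ.range.subgroupOf H ≤ (Cfsg.layer Y).subgroupOf H := comap_mono hΔE
      refine IsSubnormal.trans hle (Normal.isSubnormal ?_) (Normal.isSubnormal hn)
      refine ⟨fun x hx g => ?_⟩
      rw [mem_subgroupOf, mem_subgroupOf] at hx ⊢
      obtain ⟨t, ht⟩ := hx
      rw [coe_mul, coe_mul, coe_inv, coe_mul, coe_mul, coe_inv, ← ht]
      exact hEH _ (mem_subgroupOf.1 g.2) (g : H).2 t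
    have hPD : P ≤ Δ.range := by
      refine (hsplit _ hΔs hΔH).resolve_right fun h => hJP ?_
      intro k hk
      obtain ⟨j, hj, c, hcc, rfl⟩ := exists_mul_of_mem_layer hJ (hPE hk)
      set M := OH.comap Δ with hM
      haveI hMn : M.Normal := ⟨fun x hx g => by
        rw [hM, mem_comap, map_mul, map_mul, map_inv] at *
        obtain ⟨o, ho, eo⟩ := hx
        exact ⟨⟨Δ g, hΔa g⟩ * o * ⟨Δ g, hΔa g⟩⁻¹, Normal.conj_mem inferInstance o ho _,
          by show Δ g * (o : Y) * (Δ g)⁻¹ = _; rw [show (o : Y) = Δ x from eo]⟩⟩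
      have hMZ : M ≤ center J := by
        refine (subnormal_eq_top_or_le_center hJq (Normal.isSubnormal hMn)).resolve_left fun e => ?_
        obtain ⟨x, n, hn, hx⟩ := exists_pElement_not_mem_center hJq hdJ
        have h1 : Δ x ∈ OH := mem_comap.1 (e ▸ mem_top x : x ∈ M)
        have h2 : orderOf (Δ x) ∣ Nat.card OH := by
          rw [← Subgroup.orderOf_mk (Δ x) h1]; exact orderOf_dvd_natCard _
        obtain ⟨i, -, hi⟩ := (Nat.dvd_prime_pow hp.out).1 (orderOf_dvd_of_pow_eq_one
          (show Δ x ^ p ^ n = 1 by rw [← map_pow, hn, map_one]))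
        rcases i.eq_zero_or_pos with h0 | h0
        · exact hx (hΔker x (orderOf_eq_one_iff.1 (by rw [hi, h0, pow_zero])))
        · exact hOHp ((dvd_pow_self p h0.ne').trans (hi ▸ h2))
      have hz : (⟨j, hj⟩ : J) ∈ center J := by
        refine mem_center_of_commutator_mem hJq fun t => hMZ ?_
        rw [hM, mem_comap, map_commutatorElement]
        have h1 := h _ hk (Δ t) ⟨t, rfl⟩
        rw [commutatorElement_def, hconj _ (mem_centralizer_singleton_iff.1 (hPH hk)) (hPnJ hk) t,
          ← map_inv, ← map_mul] at h1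
        rw [← map_commutatorElement]
        convert h1 using 2
        refine Subtype.ext ?_
        show j * (t : Y) * j⁻¹ * (t : Y)⁻¹ = j * c * t * (j * c)⁻¹ * (t : Y)⁻¹
        rw [mul_inv_rev, mul_assoc j c (t : Y), ← mem_centralizer_iff.1 hcc t t.2]
        group
      refine mul_mem (mem_centralizer_iff.2 fun t ht => ?_) hcc
      exact congrArg Subtype.val (mem_center_iff.1 hz ⟨t, ht⟩)
    have hle : Nat.card Δ.range ≤ Nat.card J :=
      Nat.card_le_card_of_surjective _ Δ.rangeRestrict_surjective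
    have hPR : P = Δ.range := hcard hPD (hle.trans (hm J hJ))
    have hcJ : Nat.card J = Nat.card P :=
      le_antisymm (hm J hJ) (hPR ▸ hle)
    have hinj : Function.Injective Δ := by
      have : Function.Injective Δ.rangeRestrict :=
        ((Nat.bijective_iff_surjective_and_card _).2 ⟨Δ.rangeRestrict_surjective, by rw [hcJ, ← hPR]⟩).1
      exact fun s t e => this (Subtype.ext e)
    refine ⟨fun N hN hd => ?_, J, hJ, hcJ, Or.inr ?_⟩
    · subst hPR
      haveI := hN
      have hsurj : Function.Surjective Δ.rangeRestrict := Δ.rangeRestrict_surjective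
      have hbot := eq_bot_of_normal_pPrime hO hJ (N := N.comap Δ.rangeRestrict) (fun hd' => hd (hd'.trans (by
        rw [← card_map_of_injective (f := Δ.rangeRestrict) fun s t e => hinj (congrArg Subtype.val e),
          map_comap_eq_self_of_surjective hsurj])))
      rw [← map_comap_eq_self_of_surjective hsurj N, hbot, Subgroup.map_bot]
    have hPt : ∀ q ∈ P, ∃ t, Δ t = q := fun q hq => by rw [hPR] at hq; exact hq
    have hmem : ∀ t, Δ t ∈ P := fun t => hPR ▸ ⟨t, rfl⟩
    refine ⟨hmv, ?_, ?_, ?_, ?_, ?_⟩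
    · rw [hPR]
      rintro _ ⟨t, rfl⟩
      refine (MonoidHom.noncommPiCoprod_range (ϕ := emb (p := p) a J) (hcomm := hc)).le.trans
        (iSup_le fun i => le_iSup_of_le i ?_) ⟨(fun _ => t), rfl⟩
      rintro _ ⟨s, rfl⟩
      exact emb_mem a J i s
    · intro u hua huP
      by_contra hne
      push Not at hne
      apply hJP
      set J' := J.map (MulAut.conj u).toMonoidHom with hJ'
      have hJ'c : Cfsg.IsComponent J' := isComponent_map_equiv _ hJ
      have h1 : P ≤ centralizer (J' : Set Y) := by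
        refine (show P ≤ _ from ?_)
        have h2 : (⨆ i : ZMod p, tw a J i) ≤ centralizer (J' : Set Y) := iSup_le fun i =>
          commutator_eq_bot_iff_le_centralizer.1 (components_commute (isComponent_tw hJ i) hJ'c fun e => hne i (by
            rw [mem_normalizer_iff]
            intro x
            have h3 := SetLike.ext_iff.1 e (u * x * u⁻¹)
            rw [mem_tw, hJ', mem_map_equiv, MulAut.conj_symm_apply] at h3
            have e1 : u⁻¹ * (u * x * u⁻¹) * u = x := by group
            rw [e1] at h3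
            rw [← h3]
            group))
        refine le_trans ?_ h2
        rw [hPR]
        rintro _ ⟨t, rfl⟩
        refine (MonoidHom.noncommPiCoprod_range (ϕ := emb (p := p) a J) (hcomm := hc)).le.trans
          (iSup_le fun i => le_iSup_of_le i ?_) ⟨(fun _ => t), rfl⟩
        rintro _ ⟨s, rfl⟩
        exact emb_mem a J i s
      intro q hq
      rw [mem_centralizer_iff]
      intro t ht
      have h2 := mem_centralizer_iff.1 (h1 hq) (u * t * u⁻¹) ⟨t, ht, rfl⟩
      have h3 := (huP q hq).eq
      apply mul_left_cancel (a := u)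
      apply mul_right_cancel (b := u⁻¹)
      calc u * (t * q) * u⁻¹ = (u * t * u⁻¹) * (u * q * u⁻¹) := by group
        _ = (u * t * u⁻¹) * q := by rw [h3, mul_inv_cancel_right]
        _ = q * (u * t * u⁻¹) := h2
        _ = (u * q * u⁻¹) * (u * t * u⁻¹) := by rw [h3, mul_inv_cancel_right]
        _ = u * (q * t) * u⁻¹ := by group
    · intro u hua huP huJ
      rw [mem_centralizer_iff]
      intro t ht
      have h1 := hconj u hua huJ ⟨t, ht⟩
      rw [(huP _ (hmem _)).eq, mul_inv_cancel_right] at h1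
      have h2 : t = u * t * u⁻¹ := congrArg Subtype.val (hinj h1)
      exact (mul_inv_eq_iff_eq_mul.1 h2.symm).symm
    · intro U hU hUa hUJ
      obtain ⟨T⟩ : Nonempty (Sylow p J) := inferInstance
      let I := {i : ZMod p // i ≠ 0}
      let ext' : (I → (T : Subgroup J)) →* (ZMod p → J) :=
        { toFun := fun f i => if h : i = 0 then 1 else (f ⟨i, h⟩ : J)
          map_one' := by funext i; simp
          map_mul' := fun f g => by funext i; by_cases h : i = 0 <;> simp [h] }
      have hU' : ∀ u ∈ U, ∀ f : ZMod p → J, Commute u (Φ f) := by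
        intro u hu f
        have hh : (MulAut.conj u).toMonoidHom.comp Φ = Φ := by
          refine MonoidHom.pi_ext fun i s => ?_
          show u * Φ (Pi.mulSingle i s) * u⁻¹ = Φ (Pi.mulSingle i s)
          rw [hΦ, MonoidHom.noncommPiCoprod_mulSingle, emb_apply]
          have c1 := (commute_apow (p := p) (hUa u hu) i).eq
          have c2 := (mem_centralizer_iff.1 (hUJ hu) s s.2)
          calc u * (apow a i * s * (apow a i)⁻¹) * u⁻¹ = (u * apow a i) * s * (u * apow a i)⁻¹ := by group
            _ = (apow a i * u) * s * (apow a i * u)⁻¹ := by rw [c1]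
            _ = apow a i * ((u * s) * u⁻¹) * (apow a i)⁻¹ := by group
            _ = apow a i * s * (apow a i)⁻¹ := by rw [← c2, mul_inv_cancel_right]
        exact mul_inv_eq_iff_eq_mul.1 (DFunLike.congr_fun hh f)
      let ψ : U × (I → (T : Subgroup J)) →* Y :=
        MonoidHom.noncommCoprod U.subtype (Φ.comp ext') fun u f => hU' u u.2 _
      have hUT : IsPGroup p (U × (I → (T : Subgroup J))) := by
        obtain ⟨nU, hnU⟩ := IsPGroup.iff_card.1 hU
        obtain ⟨nT, hnT⟩ := IsPGroup.iff_card.1 T.2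
        refine IsPGroup.of_card (n := nU + nT * Nat.card I) ?_
        rw [Nat.card_prod, Nat.card_fun, hnU, hnT, ← pow_mul, pow_add]
      refine ⟨ψ.range, hUT.of_surjective _ ψ.rangeRestrict_surjective, ?_, ?_⟩
      · rintro _ ⟨⟨u, f⟩, rfl⟩
        refine mul_mem (hUJ u.2) (mem_centralizer_iff.2 fun t ht => ?_)
        have h0 : Φ (Pi.mulSingle 0 ⟨t, ht⟩) = t := by
          rw [hΦ, MonoidHom.noncommPiCoprod_mulSingle, emb_apply, apow_zero]; group
        show t * Φ (ext' f) = Φ (ext' f) * t
        have hz : Pi.mulSingle 0 (⟨t, ht⟩ : J) * ext' f = ext' f * Pi.mulSingle 0 ⟨t, ht⟩ := by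
          funext k
          rcases eq_or_ne k 0 with rfl | hk
          · simp [ext']
          · simp [Pi.mulSingle_eq_of_ne hk]
        rw [← h0, ← map_mul, hz, map_mul, h0]
      · -- the kernel consists of central elements
        have hinjk : ∀ k ∈ ψ.ker, ∀ i : I, ((k.2 i : J)) ∈ center J := by
          rintro ⟨u, f⟩ hk i
          have hk' : (u : Y) * Φ (ext' f) = 1 := hk
          have hΦf : Φ (ext' f) ∈ centralizer (J : Set Y) := by
            rw [eq_inv_of_mul_eq_one_right hk']; exact inv_mem (hUJ u.2)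
          have h1 : Φ (fun k => ext' f (k + i.1)) ∈ centralizer (J : Set Y) := by
            have hsh : ∀ n : ℕ, ∀ g : ZMod p → J, a ^ n * Φ g * (a ^ n)⁻¹ = Φ (fun k => g (k - n)) := by
              intro n
              induction n with
              | zero => intro g; simp
              | succ n ih =>
                intro g
                rw [pow_succ, show a ^ n * a * Φ g * (a ^ n * a)⁻¹ = a ^ n * (a * Φ g * a⁻¹) * (a ^ n)⁻¹ by group,
                  hshift, ih]
                congr 1; funext k; congr 1; push_cast; ring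
            have h2 := hsh (-i.1).val (ext' f)
            simp only [ZMod.natCast_zmod_val, sub_neg_eq_add] at h2
            rw [← h2, eq_inv_of_mul_eq_one_right hk',
              ((hUa u u.2).inv_left.pow_right (-i.1).val).symm.eq, mul_inv_cancel_right]
            exact inv_mem (hUJ u.2)
          have h3 := hker _ h1
          simp only [zero_add] at h3
          have e : ext' f i.1 = (f i : J) := by simp [ext', i.2]
          rwa [e] at h3
        set Z := (center J).subgroupOf (T : Subgroup J) with hZ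
        have hkc : Nat.card ψ.ker ≤ Nat.card Z ^ Nat.card I := by
          rw [← Nat.card_fun]
          refine Nat.card_le_card_of_injective
            (fun k => fun i => (⟨k.1.2 i, mem_subgroupOf.2 (hinjk k.1 k.2 i)⟩ : Z)) ?_
          rintro ⟨⟨u, f⟩, hk⟩ ⟨⟨u', f'⟩, hk'⟩ e
          have ef : f = f' := funext fun i => congrArg Subtype.val (congrFun e i)
          subst ef
          have : (u : Y) = u' := mul_right_cancel ((show (u : Y) * Φ (ext' f) = 1 from hk).trans
            (show (u' : Y) * Φ (ext' f) = 1 from hk').symm)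
          exact Subtype.ext (Prod.ext (Subtype.ext this) rfl)
        have hrk := card_mul_index ψ.ker
        rw [index_ker, Nat.card_prod, Nat.card_fun, ← card_mul_index Z] at hrk
        obtain ⟨hd1, hd2⟩ := sylow_index_center hJq hdJ T
        rw [← hZ] at hd1 hd2
        have hI : Nat.card I = p - 1 := by
          rw [Nat.card_eq_fintype_card, Fintype.card_subtype_compl, ZMod.card, Fintype.card_subtype_eq]
        have hpow : p ^ 2 ≤ Z.index ^ Nat.card I := by
          have hpos : 0 < Z.index := Nat.pos_of_ne_zero index_ne_zero_of_finite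
          rw [hI]
          rcases hp.out.eq_two_or_odd with h2 | h2
          · rw [show p - 1 = 1 by omega, pow_one]; exact Nat.le_of_dvd hpos (hd2 h2)
          · calc p ^ 2 ≤ Z.index ^ 2 := Nat.pow_le_pow_left (Nat.le_of_dvd hpos hd1) 2
              _ ≤ Z.index ^ (p - 1) := Nat.pow_le_pow_right hpos (by have := hp.out.two_le; omega)
        have hposz : 0 < Nat.card Z ^ Nat.card I := Nat.pow_pos Nat.card_pos
        have h1 : Nat.card Z ^ Nat.card I * (p ^ 2 * Nat.card U) ≤ Nat.card Z ^ Nat.card I * Nat.card ψ.range := by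
          calc Nat.card Z ^ Nat.card I * (p ^ 2 * Nat.card U)
              ≤ Nat.card Z ^ Nat.card I * (Z.index ^ Nat.card I * Nat.card U) :=
                Nat.mul_le_mul_left _ (Nat.mul_le_mul_right _ hpow)
            _ = Nat.card ψ.ker * Nat.card ψ.range := by rw [hrk, mul_pow]; ring
            _ ≤ _ := Nat.mul_le_mul_right _ hkc
        exact Nat.le_of_mul_le_mul_left h1 hposz
    · intro c hcP hcp
      obtain ⟨t, rfl⟩ := hPt c hcP
      have htp : t ^ p = 1 := hinj (by rw [map_pow, hcp, map_one])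
      refine ⟨Φ (fun i => t ^ i.val), ?_, ?_⟩
      · have h := hshift (fun i : ZMod p => (t ^ i.val)⁻¹)
        rw [show (fun i : ZMod p => (t ^ i.val)⁻¹) = (fun i : ZMod p => t ^ i.val)⁻¹ from rfl,
          map_inv] at h
        have e : (fun i : ZMod p => t ^ i.val) * (fun i : ZMod p => (t ^ (i - 1).val)⁻¹) = fun _ => t := by
          funext i
          rw [Pi.mul_apply]
          have := apow_add (Y := J) htp (i - 1) 1
          rw [apow_one, sub_add_cancel] at this
          show apow t i * (apow t (i - 1))⁻¹ = t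
          rw [this, (commute_apow (p := p) (Commute.refl t) (i - 1)).symm.eq, mul_inv_cancel_right]
        calc Φ (fun i => t ^ i.val) * a * (Φ fun i => t ^ i.val)⁻¹
            = Φ (fun i => t ^ i.val) * (a * (Φ fun i => t ^ i.val)⁻¹ * a⁻¹) * a := by group
          _ = Δ t * a := by rw [h, ← map_mul]; exact congrArg (· * a) (congrArg Φ e)
      · show Commute (Φ _) (Φ fun _ => t)
        exact (show Commute (fun i : ZMod p => t ^ i.val) (fun _ => t) from
          funext fun i => ((Commute.refl t).pow_left i.val).eq).map Φ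

end CfsgLib.Invol.PTerminal
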