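import Cfsg.Agent.Lib.Coprime.LBalance.Main
import Cfsg.Agent.Lib.Coprime.LBalance.Cores
import Cfsg.Agent.Lib.Invol.PTerminal.Orbit
import Cfsg.Prelude.Def_ClassificationStages

/-!
# Images of subgroups modulo the `p'`-core of an overgroup

`bar H A` is the image of `A` in `H / O_{p'}(H)`; `lift H J` is the `p`-component of `H` over the component `J`.
-/

set_option autoImplicit false
set_option linter.style.haveILetI false
set_option linter.unusedSectionVars false

namespace CfsgLib.Invol.PTerminal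

open Subgroup CfsgLib.Coprime
open scoped commutatorElement

variable {G : Type*} [Group G] [Finite G] {p : ℕ} [hp : Fact p.Prime]

/-- `H → H / O_{p'}(H)`. -/
abbrev proj (p : ℕ) (H : Subgroup G) : ↥H →* ↥H ⧸ Cfsg.pPrimeCore p ↥H :=
  QuotientGroup.mk' (Cfsg.pPrimeCore p ↥H)

/-- The image of `A` in `H / O_{p'}(H)`. -/
def bar (p : ℕ) (H A : Subgroup G) : Subgroup (↥H ⧸ Cfsg.pPrimeCore p ↥H) :=
  (A.subgroupOf H).map (proj p H)

/-- The `p`-component of `H` over `J`. -/
def lift (p : ℕ) (H : Subgroup G) (J : Subgroup (↥H ⧸ Cfsg.pPrimeCore p ↥H)) : Subgroup G :=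
  (pComponentOver p J).map H.subtype

/-- No nontrivial normal `p'`-subgroup. -/
def NoPP (p : ℕ) {X : Type*} [Group X] (P : Subgroup X) : Prop :=
  ∀ N : Subgroup P, N.Normal → ¬ p ∣ Nat.card N → N = ⊥

theorem mem_bar {H A : Subgroup G} {q : ↥H ⧸ Cfsg.pPrimeCore p ↥H} :
    q ∈ bar p H A ↔ ∃ g : H, (g : G) ∈ A ∧ proj p H g = q := Iff.rfl

theorem proj_mem_bar {H A : Subgroup G} {g : H} (h : (g : G) ∈ A) : proj p H g ∈ bar p H A :=
  mem_bar.2 ⟨g, h, rfl⟩

theorem bar_mono {H A B : Subgroup G} (h : A ≤ B) : bar p H A ≤ bar p H B :=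
  map_mono (comap_mono h)

theorem core_mem {I H : Subgroup G} (h : I ≤ H) {g : I}
    (hg : proj p H (inclusion h g) = 1) : proj p I g = 1 := by
  refine (QuotientGroup.eq_one_iff g).2 ?_
  refine le_pPrimeCore_of_not_dvd hp.out (N := (Cfsg.pPrimeCore p ↥H).comap (inclusion h)) ?_
    (mem_comap.2 ((QuotientGroup.eq_one_iff _).1 hg))
  intro hd
  refine pPrimeCore_not_dvd (G := H) hp.out (hd.trans ?_)
  rw [← card_map_of_injective (inclusion_injective h)]
  exact card_dvd_of_le (map_comap_le _ _)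

/-- A subgroup on which `proj H` is trivial is a `p'`-group. -/
theorem not_dvd_card_of_proj {I H : Subgroup G} (h : I ≤ H) {N : Subgroup I}
    (hN : ∀ g ∈ N, proj p H (inclusion h g) = 1) : ¬ p ∣ Nat.card N := by
  intro hd
  refine pPrimeCore_not_dvd (G := H) hp.out (hd.trans ?_)
  rw [← card_map_of_injective (inclusion_injective h)]
  refine card_dvd_of_le ?_
  rintro _ ⟨g, hg, rfl⟩
  exact (QuotientGroup.eq_one_iff _).1 (hN g hg)

theorem bar_le_bar_of_le {H I A B : Subgroup G} (hI : I ≤ H) (hB : B ≤ I)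
    (h : bar p H A ≤ bar p H B) : bar p I A ≤ bar p I B := by
  rintro _ ⟨a, ha, rfl⟩
  obtain ⟨b, hb, e⟩ := mem_bar.1 (h (proj_mem_bar (g := inclusion hI a) ha))
  refine mem_bar.2 ⟨⟨b, hB hb⟩, hb, ?_⟩
  have h1 : proj p H (inclusion hI ((⟨b, hB hb⟩ : I)⁻¹ * a)) = 1 := by
    rw [map_mul, map_inv, map_mul, map_inv, show inclusion hI (⟨b, hB hb⟩ : I) = b from Subtype.ext rfl, e,
      inv_mul_cancel]
  have h2 := core_mem hI h1
  rwa [map_mul, map_inv, inv_mul_eq_one] at h2

theorem bar_iSup {ι : Sort*} {H : Subgroup G} (L : ι → Subgroup G) (h : ∀ i, L i ≤ H) :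
    bar p H (⨆ i, L i) = ⨆ i, bar p H (L i) := by
  have e : (⨆ i, L i).subgroupOf H = ⨆ i, (L i).subgroupOf H := by
    refine map_injective H.subtype_injective ?_
    rw [map_subgroupOf_eq_of_le (iSup_le h), Subgroup.map_iSup]
    exact iSup_congr fun i => (map_subgroupOf_eq_of_le (h i)).symm
  rw [bar, e, Subgroup.map_iSup]
  rfl

theorem bar_pClosure {H A : Subgroup G} (h : A ≤ H) :
    bar p H (pClosure p A) = pClosure p (bar p H A) := by
  have e : (pClosure p A).subgroupOf H = pClosure p (A.subgroupOf H) := by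
    refine map_injective H.subtype_injective ?_
    rw [map_subgroupOf_eq_of_le ((pClosure_le p A).trans h), map_pClosure, map_subgroupOf_eq_of_le h]
  rw [bar, bar, e, map_pClosure]

/-- `A → H / O_{p'}(H)`. -/
def barHom (p : ℕ) {H A : Subgroup G} (h : A ≤ H) : A →* ↥H ⧸ Cfsg.pPrimeCore p ↥H :=
  (proj p H).comp (inclusion h)

theorem range_barHom {H A : Subgroup G} (h : A ≤ H) : (barHom p h).range = bar p H A := by
  ext q
  rw [MonoidHom.mem_range, mem_bar]
  exact ⟨fun ⟨a, ha⟩ => ⟨inclusion h a, a.2, ha⟩, fun ⟨g, hg, e⟩ => ⟨⟨g, hg⟩, e⟩⟩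

theorem card_bar {H A : Subgroup G} (h : A ≤ H) :
    Nat.card (bar p H A) = (barHom p h).ker.index := by
  rw [index_ker, range_barHom h]

theorem not_dvd_card_ker_barHom {H A : Subgroup G} (h : A ≤ H) :
    ¬ p ∣ Nat.card (barHom p h).ker :=
  not_dvd_card_of_proj h fun _ hg => hg

theorem ker_barHom_le {H H' A : Subgroup G} (h : A ≤ H) (h' : A ≤ H') (hb : NoPP p (bar p H' A)) :
    (barHom p h).ker ≤ (barHom p h').ker := by
  have hr := range_barHom (p := p) h'
  let f : A →* bar p H' A :=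
    (barHom p h').codRestrict _ fun a => hr.le ⟨a, rfl⟩
  have hf : Function.Surjective f := fun ⟨q, hq⟩ => by
    obtain ⟨a, ha⟩ := hr.ge hq
    exact ⟨a, Subtype.ext ha⟩
  have h1 := hb _ (Normal.map inferInstance f hf : ((barHom p h).ker.map f).Normal)
    fun hd => not_dvd_card_ker_barHom h (hd.trans (card_map_dvd _ f))
  intro a ha
  exact congrArg Subtype.val (MonoidHom.mem_ker.1 ((Subgroup.map_eq_bot_iff _).1 h1 ha))

theorem card_bar_le_card_bar {H H' A : Subgroup G} (h : A ≤ H) (h' : A ≤ H')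
    (hb : NoPP p (bar p H' A)) : Nat.card (bar p H' A) ≤ Nat.card (bar p H A) := by
  rw [card_bar h, card_bar h']
  exact Nat.le_of_dvd (Nat.pos_of_ne_zero index_ne_zero_of_finite)
    (index_dvd_of_le (ker_barHom_le h h' hb))

theorem card_bar_le_of_le {H I A : Subgroup G} (hI : I ≤ H) (hA : A ≤ I) :
    Nat.card (bar p I A) ≤ Nat.card (bar p H A) := by
  rw [card_bar hA, card_bar (hA.trans hI)]
  exact Nat.le_of_dvd (Nat.pos_of_ne_zero index_ne_zero_of_finite)
    (index_dvd_of_le fun a ha => core_mem hI (g := inclusion hA a) ha)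

theorem noPP_of_isComponent {X : Type*} [Group X] [Finite X] (hO : Cfsg.pPrimeCore p X = ⊥)
    {J : Subgroup X} (hJ : Cfsg.IsComponent J) : NoPP p J := fun N hN hd => by
  haveI := hN
  exact eq_bot_of_normal_pPrime hO hJ hd

/-! ### `p`-components -/

theorem pClosure_eq {K H : Subgroup G} (hK : Cfsg.IsPComponentOf p K H) : pClosure p K = K := by
  have := congrArg (Subgroup.map H.subtype) (pClosure_pComponent hK.2)
  rwa [map_pClosure, map_subgroupOf_eq_of_le hK.1] at this

theorem lift_le (H : Subgroup G) (J : Subgroup (↥H ⧸ Cfsg.pPrimeCore p ↥H)) : lift p H J ≤ H :=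
  map_subtype_le _

theorem lift_subgroupOf (H : Subgroup G) (J : Subgroup (↥H ⧸ Cfsg.pPrimeCore p ↥H)) :
    (lift p H J).subgroupOf H = pComponentOver p J :=
  comap_map_eq_self_of_injective H.subtype_injective _

theorem lift_isPComponentOf {H : Subgroup G} {J : Subgroup (↥H ⧸ Cfsg.pPrimeCore p ↥H)}
    (hJ : Cfsg.IsComponent J) : Cfsg.IsPComponentOf p (lift p H J) H :=
  ⟨lift_le H J, by rw [lift_subgroupOf]; exact isPComponent_pComponentOver hJ⟩

theorem bar_lift {H : Subgroup G} {J : Subgroup (↥H ⧸ Cfsg.pPrimeCore p ↥H)}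
    (hJ : Cfsg.IsComponent J) : bar p H (lift p H J) = J := by
  rw [bar, lift_subgroupOf]
  exact map_pComponentOver hJ

theorem eq_lift {K H : Subgroup G} (hK : Cfsg.IsPComponentOf p K H) : K = lift p H (bar p H K) := by
  rw [lift, bar, ← eq_pComponentOver hK.2, map_subgroupOf_eq_of_le hK.1]

theorem le_lift {A H : Subgroup G} (hA : A ≤ H) (hc : pClosure p A = A)
    {J : Subgroup (↥H ⧸ Cfsg.pPrimeCore p ↥H)} (h : bar p H A ≤ J) : A ≤ lift p H J := by
  rw [← hc, ← map_subgroupOf_eq_of_le hA, ← map_pClosure]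
  exact map_mono (pClosure_mono (map_le_iff_le_comap.1 h))

theorem isPComponent_map_of_ker {X X' : Type*} [Group X] [Finite X] [Group X'] {f : X →* X'}
    (hf : Function.Surjective f) (hker : ¬ p ∣ Nat.card f.ker) {K : Subgroup X}
    (hK : Cfsg.IsPComponent p K) : Cfsg.IsPComponent p (K.map f) := by
  haveI : Finite X' := Finite.of_surjective f hf
  let ψ : X →* X' ⧸ Cfsg.pPrimeCore p X' := (QuotientGroup.mk' (Cfsg.pPrimeCore p X')).comp f
  have hψ : ψ.ker = Cfsg.pPrimeCore p X := by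
    rw [← MonoidHom.comap_ker, QuotientGroup.ker_mk', comap_pPrimeCore_of_ker hf hker]
  let e : X ⧸ Cfsg.pPrimeCore p X ≃* X' ⧸ Cfsg.pPrimeCore p X' :=
    (QuotientGroup.quotientMulEquivOfEq hψ.symm).trans
      (QuotientGroup.quotientKerEquivOfSurjective ψ ((QuotientGroup.mk'_surjective _).comp hf))
  set Kb := K.map (QuotientGroup.mk' (Cfsg.pPrimeCore p X))
  have key : K.map f = pComponentOver p (Kb.map e.toMonoidHom) := by
    conv_lhs => rw [eq_pComponentOver hK]
    have h2 : ((Kb.map e.toMonoidHom).comap ψ) = Kb.comap (QuotientGroup.mk' _) := by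
      rw [show ψ = e.toMonoidHom.comp (QuotientGroup.mk' _) from MonoidHom.ext fun _ => rfl,
        ← comap_comap, comap_map_eq_self_of_injective e.injective]
    rw [pComponentOver, map_pClosure, pComponentOver, ← h2]
    exact congrArg (pClosure p) (by rw [← comap_comap, map_comap_eq_self_of_surjective hf])
  rw [key]
  exact isPComponent_pComponentOver (isComponent_map_equiv e hK.2.1)

/-- A group which is quasisimple modulo a `p'`-group has one `p`-component. -/
theorem pComponent_of_surjective {X : Type*} [Group X] [Finite X] {N : Type*} [Group N] [Finite N]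
    (hX : Cfsg.IsQuasisimple X) (hO : Cfsg.pPrimeCore p X = ⊥) {f : N →* X}
    (hf : Function.Surjective f) (hker : ¬ p ∣ Nat.card f.ker) :
    Cfsg.IsPComponent p (pClosure p (⊤ : Subgroup N)) ∧
      Cfsg.pLayer p N = pClosure p (⊤ : Subgroup N) := by
  have hN : f.ker = Cfsg.pPrimeCore p N := by
    rw [← comap_pPrimeCore_of_ker hf hker, hO, MonoidHom.comap_bot]
  let e : N ⧸ Cfsg.pPrimeCore p N ≃* X :=
    (QuotientGroup.quotientMulEquivOfEq hN.symm).trans
      (QuotientGroup.quotientKerEquivOfSurjective f hf)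
  have hc : Cfsg.IsComponent (⊤ : Subgroup (N ⧸ Cfsg.pPrimeCore p N)) :=
    ⟨IsSubnormal.top, isQuasisimple_congr (e.symm.trans Subgroup.topEquiv.symm) hX⟩
  constructor
  · have := isPComponent_pComponentOver hc
    rwa [pComponentOver, comap_top] at this
  · rw [pLayer_eq_pClosure, top_unique (component_le_layer hc), comap_top]

/-! ### Centralizers modulo the core -/

theorem exists_lift_centralizer {H S : Subgroup G} (hSH : S ≤ H) (hS : IsPGroup p S) {g : H}
    (hc : ∀ s (hs : s ∈ S), Commute (proj p H g) (proj p H ⟨s, hSH hs⟩)) :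
    ∃ g' : H, (g' : G) ∈ centralizer (S : Set G) ∧ proj p H g' = proj p H g := by
  set N := (Cfsg.pPrimeCore p ↥H).map H.subtype with hNdef
  have hHN : H ≤ normalizer (N : Set G) := by
    intro h hh
    exact le_normalizer_map H.subtype
      ⟨⟨h, hh⟩, (Subgroup.normalizer_eq_top (Cfsg.pPrimeCore p ↥H)).ge (mem_top _), rfl⟩
  have hcop : (Nat.card S).Coprime (Nat.card N) := by
    obtain ⟨n, hn⟩ := IsPGroup.iff_card.1 hS
    rw [hn, hNdef, card_map_of_injective H.subtype_injective]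
    exact ((hp.out.coprime_iff_not_dvd.2 (pPrimeCore_not_dvd (G := H) hp.out))).pow_left n
  haveI : Group.IsNilpotent S := hS.isNilpotent
  obtain ⟨n, hn, hnc⟩ := exists_fixed_in_coset (hSH.trans hHN) hcop
    (Or.inl inferInstance) (hHN g.2) fun s hs => by
      refine ⟨⟨s, hSH hs⟩ * g * ⟨s, hSH hs⟩⁻¹ * g⁻¹, (QuotientGroup.eq_one_iff _).1 ?_, rfl⟩
      show proj p H _ = 1
      rw [map_mul, map_mul, map_mul, map_inv, map_inv, (hc s hs).symm.eq, mul_inv_cancel_right,
        mul_inv_cancel]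
  obtain ⟨o, ho, rfl⟩ := hn
  refine ⟨g * o, hnc, ?_⟩
  rw [map_mul, show proj p H o = 1 from (QuotientGroup.eq_one_iff o).2 ho, mul_one]

/-! ### `C_{C(x)}(K / O_{p'}(K))` -/

local notation "𝒞" x:max => Subgroup.centralizer ({x} : Set _)

theorem mem_D_iff {x g : G} {K : Subgroup G} :
    g ∈ Cfsg.centralizerOfPComponent p x K ↔ ∃ hg : g ∈ 𝒞 x,
      proj p (𝒞 x) ⟨g, hg⟩ ∈ centralizer (bar p (𝒞 x) K : Set _) :=
  ⟨fun ⟨h, hh, e⟩ => by subst e; exact ⟨h.2, hh⟩, fun ⟨hg, h⟩ => ⟨⟨g, hg⟩, h, rfl⟩⟩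

theorem D_le {x : G} {K : Subgroup G} : Cfsg.centralizerOfPComponent p x K ≤ 𝒞 x :=
  fun _ h => (mem_D_iff.1 h).1

theorem self_mem_D (x : G) (K : Subgroup G) : x ∈ Cfsg.centralizerOfPComponent p x K := by
  refine mem_D_iff.2 ⟨mem_centralizer_singleton_iff.2 rfl, mem_centralizer_iff.2 fun q hq => ?_⟩
  obtain ⟨k, -, rfl⟩ := mem_bar.1 hq
  rw [← map_mul, ← map_mul]
  exact congrArg _ (Subtype.ext (mem_centralizer_singleton_iff.1 k.2))

theorem normalizer_of_subgroupOf {A H : Subgroup G} (hA : A ≤ H) {g : H}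
    (hg : g ∈ normalizer ((A.subgroupOf H : Subgroup H) : Set H)) : (g : G) ∈ normalizer (A : Set G) := by
  have := le_normalizer_map H.subtype (mem_map_of_mem H.subtype hg)
  rwa [map_subgroupOf_eq_of_le hA] at this

theorem D_le_normalizer {x : G} {K : Subgroup G} (hK : Cfsg.IsPComponentOf p K (𝒞 x)) :
    Cfsg.centralizerOfPComponent p x K ≤ normalizer (K : Set G) := fun g hg => by
  obtain ⟨hgx, hc⟩ := mem_D_iff.1 hg
  exact normalizer_of_subgroupOf hK.1 (g := ⟨g, hgx⟩)
    (mem_normalizer_pComponent hK.2 (centralizer_le_normalizer _ hc))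

theorem bar_inf_centralizer {x : G} {K S : Subgroup G} (hK : Cfsg.IsPComponentOf p K (𝒞 x))
    (hS : IsPGroup p S) (hSD : S ≤ Cfsg.centralizerOfPComponent p x K) :
    bar p (𝒞 x) (K ⊓ centralizer (S : Set G)) = bar p (𝒞 x) K := by
  refine le_antisymm (bar_mono inf_le_left) ?_
  rintro _ ⟨k, hk, rfl⟩
  set O := (Cfsg.pPrimeCore p ↥(𝒞 x)).map (𝒞 x).subtype with hOdef
  have hCO : 𝒞 x ≤ normalizer (O : Set G) := by
    intro h hh
    exact le_normalizer_map (𝒞 x).subtype
      ⟨⟨h, hh⟩, (Subgroup.normalizer_eq_top (Cfsg.pPrimeCore p ↥(𝒞 x))).ge (mem_top _), rfl⟩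
  have hcop : (Nat.card S).Coprime (Nat.card (K ⊓ O : Subgroup G)) := by
    obtain ⟨n, hn⟩ := IsPGroup.iff_card.1 hS
    rw [hn]
    refine Nat.Coprime.coprime_dvd_right (card_dvd_of_le inf_le_right) ?_
    rw [hOdef, card_map_of_injective (𝒞 x).subtype_injective]
    exact ((hp.out.coprime_iff_not_dvd.2 (pPrimeCore_not_dvd (G := ↥(𝒞 x)) hp.out))).pow_left n
  haveI : Group.IsNilpotent S := hS.isNilpotent
  have hSN := hSD.trans (D_le_normalizer hK)
  obtain ⟨n, hn, hnc⟩ := exists_fixed_in_coset (N := K ⊓ O)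
    (inf_le_normalizer hSN (hSD.trans (D_le.trans hCO))) hcop (Or.inl inferInstance) (k := (k : G))
    (inf_le_normalizer le_normalizer (hK.1.trans hCO) hk) fun s hs => by
      refine Subgroup.mem_inf.2 ⟨mul_mem ((mem_normalizer_iff.1 (hSN hs) _).1 hk) (inv_mem hk), ?_⟩
      obtain ⟨hsx, hsc⟩ := mem_D_iff.1 (hSD hs)
      refine ⟨⟨s, hsx⟩ * k * ⟨s, hsx⟩⁻¹ * k⁻¹, (QuotientGroup.eq_one_iff _).1 ?_, rfl⟩
      show proj p _ _ = 1
      rw [map_mul, map_mul, map_mul, map_inv, map_inv, ← mem_centralizer_iff.1 hsc _ (proj_mem_bar hk),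
        mul_inv_cancel_right, mul_inv_cancel]
  obtain ⟨hnK, o, ho, rfl⟩ := hn
  refine mem_bar.2 ⟨k * o, Subgroup.mem_inf.2 ⟨mul_mem hk hnK, hnc⟩, ?_⟩
  rw [map_mul, show proj p _ o = 1 from (QuotientGroup.eq_one_iff o).2 ho, mul_one]

theorem bar_pClosure_inf_centralizer {x : G} {K S : Subgroup G}
    (hK : Cfsg.IsPComponentOf p K (𝒞 x)) (hS : IsPGroup p S)
    (hSD : S ≤ Cfsg.centralizerOfPComponent p x K) :
    bar p (𝒞 x) (pClosure p (K ⊓ centralizer (S : Set G))) = bar p (𝒞 x) K := by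
  rw [bar_pClosure (inf_le_left.trans hK.1), bar_inf_centralizer hK hS hSD,
    ← bar_pClosure hK.1, pClosure_eq hK]

/-- `O^{p'}(C_K(S))` is a `p`-component of `C(x) ∩ C(S)` and is the `p`-layer of `C_K(S)`. -/
theorem restrict {x : G} {K S : Subgroup G} (hK : Cfsg.IsPComponentOf p K (𝒞 x))
    (hS : IsPGroup p S) (hSD : S ≤ Cfsg.centralizerOfPComponent p x K) :
    Cfsg.IsPComponentOf p (pClosure p (K ⊓ centralizer (S : Set G))) (𝒞 x ⊓ centralizer (S : Set G)) ∧
      Cfsg.pLayerOf p (K ⊓ centralizer (S : Set G)) = pClosure p (K ⊓ centralizer (S : Set G)) := by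
  set B := K ⊓ centralizer (S : Set G)
  set M := 𝒞 x ⊓ centralizer (S : Set G)
  have hBx : B ≤ 𝒞 x := inf_le_left.trans hK.1
  have hBM : B ≤ M := inf_le_inf_right _ hK.1
  have hN : (B.subgroupOf M).IsSubnormal := by
    have e : B.subgroupOf M = (K.subgroupOf (𝒞 x)).comap (inclusion (inf_le_left : M ≤ 𝒞 x)) := by
      ext g
      exact ⟨fun h => (Subgroup.mem_inf.1 h).1, fun h => Subgroup.mem_inf.2 ⟨h, (Subgroup.mem_inf.1 g.2).2⟩⟩
    rw [e]
    exact hK.2.1.comap _
  set f := barHom p hBx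
  have hr : f.range = bar p (𝒞 x) K := (range_barHom hBx).trans (bar_inf_centralizer hK hS hSD)
  have hc : Cfsg.IsComponent f.range := hr.symm ▸ hK.2.2.1
  have hO0 : Cfsg.pPrimeCore p f.range = ⊥ :=
    noPP_of_isComponent (pPrimeCore_quotient_eq_bot hp.out) hc _ inferInstance
      (pPrimeCore_not_dvd hp.out)
  obtain ⟨h1, h2⟩ := pComponent_of_surjective hc.2 hO0 f.rangeRestrict_surjective
    (by rw [MonoidHom.ker_rangeRestrict]; exact not_dvd_card_ker_barHom hBx)
  have hsub : (pClosure p (⊤ : Subgroup B)).map B.subtype = pClosure p B := by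
    rw [map_pClosure, ← MonoidHom.range_eq_map, range_subtype]
  refine ⟨⟨(pClosure_le p B).trans hBM, ?_⟩, by rw [Cfsg.pLayerOf, h2, hsub]⟩
  let e := (subgroupOfEquivOfLe hBM).symm
  have h3 := (isPComponent_map_subtype_iff hN _).2
    (isPComponent_map_of_ker (f := e.toMonoidHom) e.surjective
      (by rw [(MonoidHom.ker_eq_bot_iff _).2 e.injective, card_bot]; exact hp.out.not_dvd_one) h1)
  convert h3 using 1
  refine map_injective M.subtype_injective ?_
  rw [map_subgroupOf_eq_of_le ((pClosure_le p B).trans hBM), Subgroup.map_map, Subgroup.map_map, ← hsub]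
  rfl

end CfsgLib.Invol.PTerminal
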